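-- S1437 team project, package PK4: nilpotency of `N / Q'` when every non-identity element of `K`
-- has all its fixed points on `N` inside `Q'` (Thompson's theorem in the quotient).
import Mathlib
import Cfsg.Prelude.Def_OddOrderLocal
import Cfsg.Agent.Lib.Helper6.BG.S1437Defs
import Cfsg.Agent.Lib.Helper23.BG36.Quot
import Cfsg.Agent.Lib.Helper97.FrobFormula
import Cfsg.Agent.Lib.Helper22.Fstar

set_option autoImplicit false

namespace Cfsg.Agent.Lib.Helper23.BG37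

universe u

open Subgroup

/-- Package PK4 of the S1437 project. -/
theorem pk4 : Cfsg.Agent.Lib.Helper6.BG37.PK4.{u} := by
  intro G _ _ N K Q' hKN _hsolv _hodd hcop hK1 _hNK hQN hNQ hKQ hfix
  classical
  set NW : Subgroup G := normalizer (Q' : Set G) with hNWdef
  have hWN : Q' ≤ NW := le_normalizer
  let W' : Subgroup ↥NW := Q'.subgroupOf NW
  have hW'n : W'.Normal := Subgroup.normal_in_normalizer
  let π : ↥NW →* ↥NW ⧸ W' := QuotientGroup.mk' W'
  have hker : π.ker = W' := QuotientGroup.ker_mk' W'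
  let im : Subgroup G → Subgroup (↥NW ⧸ W') := fun S => (S.subgroupOf NW).map π
  have mem_im : ∀ (S : Subgroup G) (x : G) (hx : x ∈ NW), x ∈ S → π ⟨x, hx⟩ ∈ im S :=
    fun S x hx hxS => Subgroup.mem_map.mpr ⟨⟨x, hx⟩, Subgroup.mem_subgroupOf.mpr hxS, rfl⟩
  have im_lift : ∀ (S : Subgroup G), ∀ y ∈ im S, ∃ x, ∃ hx : x ∈ NW, x ∈ S ∧ π ⟨x, hx⟩ = y := by
    intro S y hy
    obtain ⟨z, hz, rfl⟩ := Subgroup.mem_map.mp hy
    exact ⟨z.1, z.2, Subgroup.mem_subgroupOf.mp hz, rfl⟩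
  have im_mono : ∀ (S T : Subgroup G), S ≤ T → im S ≤ im T := by
    intro S T hST y hy
    obtain ⟨x, hx, hxS, rfl⟩ := im_lift S y hy
    exact mem_im T x hx (hST hxS)
  have π_one : ∀ (x : G) (hx : x ∈ NW), π ⟨x, hx⟩ = 1 ↔ x ∈ Q' := by
    intro x hx
    rw [← MonoidHom.mem_ker, hker]
    exact Subgroup.mem_subgroupOf
  have π_mul : ∀ (x y : G) (hx : x ∈ NW) (hy : y ∈ NW),
      π ⟨x * y, NW.mul_mem hx hy⟩ = π ⟨x, hx⟩ * π ⟨y, hy⟩ := by
    intro x y hx hy
    rw [← map_mul]; rfl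
  have π_inv : ∀ (x : G) (hx : x ∈ NW), π ⟨x⁻¹, NW.inv_mem hx⟩ = (π ⟨x, hx⟩)⁻¹ := by
    intro x hx
    rw [← map_inv]; rfl
  have π_eq : ∀ (x y : G) (hx : x ∈ NW) (hy : y ∈ NW),
      π ⟨x, hx⟩ = π ⟨y, hy⟩ → x⁻¹ * y ∈ Q' := by
    intro x y hx hy h
    rw [← π_one (x⁻¹ * y) (NW.mul_mem (NW.inv_mem hx) hy), π_mul _ _ (NW.inv_mem hx) hy,
      π_inv x hx, h]
    exact inv_mul_cancel _
  have hKQ' : K ⊓ Q' = ⊥ := by
    apply disjoint_iff.mp
    apply Subgroup.disjoint_of_coprime_natCard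
    exact Nat.Coprime.symm (Nat.Coprime.coprime_dvd_left (Subgroup.card_dvd_of_le hQN) hcop)
  -- the action of `K` on `N / Q'` is fixed-point-free
  have hfpf : ∀ e ∈ im K, e ≠ 1 → ∀ u ∈ im N, e * u = u * e → u = 1 := by
    intro e he he1 u hu hcomm
    obtain ⟨k, hk, hkK, rfl⟩ := im_lift K e he
    obtain ⟨n, hn, hnN, rfl⟩ := im_lift N u hu
    have hk1 : k ≠ 1 := by
      intro h
      apply he1
      rw [π_one k hk, h]
      exact Q'.one_mem
    have hord : orderOf k ≠ 1 := by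
      intro h
      exact hk1 (orderOf_eq_one_iff.mp h)
    obtain ⟨r, hr, hrdvd⟩ := Nat.exists_prime_and_dvd hord
    have hrF : Fact r.Prime := ⟨hr⟩
    have hord0 : orderOf k ≠ 0 := (orderOf_pos k).ne'
    set k₀ : G := k ^ (orderOf k / r) with hk₀def
    have hk₀ord : orderOf k₀ = r := orderOf_pow_orderOf_div hord0 hrdvd
    have hk₀K : k₀ ∈ K := K.pow_mem hkK _
    have hk₀1 : k₀ ≠ 1 := by
      intro h
      rw [h, orderOf_one] at hk₀ord
      exact hr.one_lt.ne hk₀ord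
    have hE : IsPGroup r (zpowers k₀) := by
      apply IsPGroup.of_card (n := 1)
      rw [Nat.card_zpowers, hk₀ord, pow_one]
    have hEK : zpowers k₀ ≤ K := by
      rw [Subgroup.zpowers_le]; exact hk₀K
    have hEW : zpowers k₀ ≤ normalizer (Q' : Set G) := hEK.trans hKQ
    have hrK : r ∣ Nat.card K := by
      have h1 : orderOf (⟨k, hkK⟩ : ↥K) ∣ Nat.card K := orderOf_dvd_natCard _
      rw [Subgroup.orderOf_mk] at h1
      exact hrdvd.trans h1
    have hrW : ¬ r ∣ Nat.card Q' := by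
      intro hdvd
      have h1 : r ∣ Nat.card N := hdvd.trans (Subgroup.card_dvd_of_le hQN)
      have h2 := Nat.eq_one_of_dvd_coprimes hcop h1 hrK
      exact hr.one_lt.ne' h2
    have hcommz : ∀ g ∈ zpowers k₀, ∀ hg : g ∈ NW, π ⟨g, hg⟩ * π ⟨n, hn⟩ = π ⟨n, hn⟩ * π ⟨g, hg⟩ := by
      intro g hg hgN
      have hgk : g ∈ zpowers k := by
        have h1 : zpowers k₀ ≤ zpowers k := by
          rw [Subgroup.zpowers_le]
          exact Subgroup.pow_mem _ (Subgroup.mem_zpowers k) _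
        exact h1 hg
      obtain ⟨z, rfl⟩ := Subgroup.mem_zpowers_iff.mp hgk
      have h2 : (⟨k ^ z, hgN⟩ : ↥NW) = (⟨k, hk⟩ : ↥NW) ^ z := Subtype.ext (by simp)
      rw [h2, map_zpow]
      exact (Commute.zpow_left (show Commute (π ⟨k, hk⟩) (π ⟨n, hn⟩) from hcomm) z).eq
    have hh : ∀ g ∈ zpowers k₀, n⁻¹ * (g * n * g⁻¹) ∈ Q' := by
      intro g hg
      have hgN : g ∈ NW := hEW hg
      have h1 := hcommz g hg hgN
      rw [← π_one _ (NW.mul_mem (NW.inv_mem hn) (NW.mul_mem (NW.mul_mem hgN hn) (NW.inv_mem hgN))),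
        π_mul _ _ (NW.inv_mem hn) (NW.mul_mem (NW.mul_mem hgN hn) (NW.inv_mem hgN)),
        π_mul _ _ (NW.mul_mem hgN hn) (NW.inv_mem hgN), π_mul _ _ hgN hn, π_inv _ hn, π_inv _ hgN,
        h1]
      group
    obtain ⟨w, hw, hwfix⟩ :=
      Cfsg.Agent.Lib.Helper23.BG36.exists_fixed_in_coset (zpowers k₀) Q' hE hEW hrW n hh
    have hnw : n * w ∈ N ⊓ centralizer ({k₀} : Set G) := by
      refine Subgroup.mem_inf.mpr ⟨N.mul_mem hnN (hQN hw), ?_⟩
      rw [Subgroup.mem_centralizer_iff]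
      intro h hh'
      rw [Set.mem_singleton_iff] at hh'
      rw [hh']
      have h3 := hwfix k₀ (Subgroup.mem_zpowers k₀)
      calc k₀ * (n * w) = k₀ * (n * w) * k₀⁻¹ * k₀ := by group
        _ = n * w * k₀ := by rw [h3]
    have hnwQ : n * w ∈ Q' := hfix k₀ hk₀K hk₀1 hnw
    have hnQ : n ∈ Q' := by
      have h4 : n = n * w * w⁻¹ := by group
      rw [h4]
      exact Q'.mul_mem hnwQ (Q'.inv_mem hw)
    exact (π_one n hn).mpr hnQ
  have hK1' : im K ≠ ⊥ := by
    intro h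
    apply hK1
    rw [eq_bot_iff]
    intro k hkK
    have h1 : π ⟨k, hKQ hkK⟩ ∈ im K := mem_im K k (hKQ hkK) hkK
    rw [h, Subgroup.mem_bot, π_one] at h1
    have h2 : k ∈ K ⊓ Q' := ⟨hkK, h1⟩
    rw [hKQ'] at h2
    exact h2
  have hUn : ∀ e ∈ im K, ∀ u ∈ im N, e * u * e⁻¹ ∈ im N := by
    intro e he u hu
    obtain ⟨k, hk, hkK, rfl⟩ := im_lift K e he
    obtain ⟨n, hn, hnN, rfl⟩ := im_lift N u hu
    have h1 : k * n * k⁻¹ ∈ N := (Subgroup.le_normalizer_iff.mp hKN) k hkK n hnN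
    have h2 := mem_im N (k * n * k⁻¹) (NW.mul_mem (NW.mul_mem hk hn) (NW.inv_mem hk)) h1
    rwa [π_mul _ _ (NW.mul_mem hk hn) (NW.inv_mem hk), π_mul _ _ hk hn, π_inv _ hk] at h2
  have hnil : Group.IsNilpotent ↥(im N) :=
    Cfsg.Agent.Lib.Helper97.FrobFormula.nilpotent_of_fpf (im N) (im K) hK1' hUn hfpf
  refine ⟨?_, ?_⟩
  · -- subgroups meeting `Q'` trivially
    intro D hDN hDQ
    let f : ↥D →* ↥NW ⧸ W' := π.comp (Subgroup.inclusion (hDN.trans hNQ))
    have hf : Function.Injective f := by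
      rw [injective_iff_map_eq_one]
      intro d hd
      have h1 : π ⟨d.1, (hDN.trans hNQ) d.2⟩ = 1 := hd
      rw [π_one] at h1
      have h2 : d.1 ∈ D ⊓ Q' := ⟨d.2, h1⟩
      rw [hDQ] at h2
      exact Subtype.ext (Subgroup.mem_bot.mp h2)
    have hrange : f.range ≤ im N := by
      rintro _ ⟨d, rfl⟩
      exact mem_im N d.1 ((hDN.trans hNQ) d.2) (hDN d.2)
    have hnil' : Group.IsNilpotent ↥f.range :=
      Cfsg.Agent.Lib.Helper22.isNilpotent_of_le hrange hnil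
    exact Group.nilpotent_of_mulEquiv (MonoidHom.ofInjective hf).symm
  · -- Sylow subgroups
    intro r hrF S hSN hSr hSidx
    have hSW : S ≤ NW := hSN.trans hNQ
    have himSN : im S ≤ im N := im_mono S N hSN
    have himSr : IsPGroup r (im S) := by
      have h1 : IsPGroup r (S.subgroupOf NW) :=
        hSr.of_equiv (Subgroup.subgroupOfEquivOfLe hSW).symm
      exact h1.map π
    let P₀ : Subgroup ↥(im N) := (im S).subgroupOf (im N)
    have hP₀r : IsPGroup r P₀ := himSr.comap_subtype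
    have hidx : ¬ r ∣ P₀.index := by
      intro hdvd
      apply hSidx
      have h1 : P₀.index = (im S).relIndex (im N) := rfl
      rw [h1] at hdvd
      have h2 := Subgroup.relIndex_map_map π (S.subgroupOf NW) (N.subgroupOf NW)
      rw [hker] at h2
      have h3 : N.subgroupOf NW ⊔ W' = N.subgroupOf NW := by
        apply sup_eq_left.mpr
        intro x hx
        exact Subgroup.mem_subgroupOf.mpr (hQN (Subgroup.mem_subgroupOf.mp hx))
      rw [h3] at h2
      have h4 : (S.subgroupOf NW ⊔ W').relIndex (N.subgroupOf NW) ∣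
          (S.subgroupOf NW).relIndex (N.subgroupOf NW) :=
        Subgroup.relIndex_dvd_of_le_left _ le_sup_left
      rw [Subgroup.relIndex_subgroupOf hNQ] at h4
      have h5 : (im S).relIndex (im N) = (S.subgroupOf NW ⊔ W').relIndex (N.subgroupOf NW) := h2
      rw [h5] at hdvd
      exact hdvd.trans h4
    have hnc : NormalizerCondition ↥(im N) := Group.normalizerCondition_of_isNilpotent
    have hP₀n : P₀.Normal := by
      have h1 := Sylow.normal_of_normalizerCondition hnc (hP₀r.toSylow hidx)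
      rwa [IsPGroup.toSylow_coe] at h1
    have hconj : ∀ u ∈ im N, ∀ s ∈ im S, u * s * u⁻¹ ∈ im S := by
      intro u hu s hs
      have h1 : (⟨s, himSN hs⟩ : ↥(im N)) ∈ P₀ := Subgroup.mem_subgroupOf.mpr hs
      have h2 := hP₀n.conj_mem _ h1 ⟨u, hu⟩
      exact Subgroup.mem_subgroupOf.mp h2
    have hSQW : S ⊔ Q' ≤ NW := sup_le hSW hWN
    have hfwd : ∀ y ∈ S ⊔ Q', ∀ hy : y ∈ NW, π ⟨y, hy⟩ ∈ im S := by
      intro y hy hyN
      have h1 : S ⊔ Q' ≤ ((im S).comap π).map NW.subtype := by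
        apply sup_le
        · intro s hs
          exact ⟨⟨s, hSW hs⟩, Subgroup.mem_comap.mpr (mem_im S s (hSW hs) hs), rfl⟩
        · intro w hw
          refine ⟨⟨w, hWN hw⟩, Subgroup.mem_comap.mpr ?_, rfl⟩
          rw [(π_one w (hWN hw)).mpr hw]
          exact Subgroup.one_mem _
      obtain ⟨z, hz, hzy⟩ := h1 hy
      have h2 : z = ⟨y, hyN⟩ := Subtype.ext hzy
      rw [← h2]
      exact Subgroup.mem_comap.mp hz
    have hbwd : ∀ (y : G) (hy : y ∈ NW), π ⟨y, hy⟩ ∈ im S → y ∈ S ⊔ Q' := by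
      intro y hy h
      obtain ⟨s, hs, hsS, heq⟩ := im_lift S _ h
      have h1 := π_eq s y hs hy heq
      have h2 : y = s * (s⁻¹ * y) := by group
      rw [h2]
      exact Subgroup.mul_mem_sup hsS h1
    rw [Subgroup.le_normalizer_iff]
    intro n hnN y hy
    have hnW : n ∈ NW := hNQ hnN
    have hyW : y ∈ NW := hSQW hy
    apply hbwd _ (NW.mul_mem (NW.mul_mem hnW hyW) (NW.inv_mem hnW))
    rw [π_mul _ _ (NW.mul_mem hnW hyW) (NW.inv_mem hnW), π_mul _ _ hnW hyW, π_inv _ hnW]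
    exact hconj _ (mem_im N n hnW hnN) _ (hfwd y hy hyW)

end Cfsg.Agent.Lib.Helper23.BG37
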